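import Groth.Agent.H56.CurveDual.Duality
import Groth.Agent.Lib.Curves.LES

/-!
# Injectivity on `H¹` from extension of maps into `ω`

If every map `F' ⟶ ω` extends along `b : F' ⟶ F`, then `H¹(F') ⟶ H¹(F)` is injective.
-/

set_option autoImplicit false
set_option linter.style.haveILetI false
set_option linter.unusedSectionVars false
set_option maxHeartbeats 800000

universe u

open CategoryTheory CategoryTheory.Limits AlgebraicGeometry DerivedCategory

attribute [local instance] HasDerivedCategory.standard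
attribute [local instance] Groth.Agent.Lib.DerivedOX.LeftExists.hasLpull

namespace Groth.Agent.H60.GGDual.Inj

open Groth.Agent.Lib Groth.Agent.Lib.DerivedOX Groth.Agent.H56.CurveDual Groth.Agent.H56.CurveDual.Duality

variable {k : Type u} [Field k]

theorem exists_dual {K : Type u} [Field K] (N : ModuleCat.{u} K) {v : N} (hv : v ≠ 0) :
    ∃ l : N →ₗ[K] K, l v ≠ 0 := by
  by_contra hh
  push Not at hh
  exact hv ((Module.forall_dual_apply_eq_zero_iff K v).1 hh)

theorem exists_comp_ne_zero {R : CommRingCat.{u}} {N : ModuleCat.{u} R} {M : (Spec R).Modules}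
    (e : tilde N ≅ M) (c : Coh.structureModule (Spec R) ⟶ M) (hc : c ≠ 0)
    (hdual : ∀ v : N, v ≠ 0 → ∃ l : N →ₗ[R] R, l v ≠ 0) :
    ∃ α : M ⟶ Coh.structureModule (Spec R), c ≫ α ≠ 0 := by
  let c' : tilde (ModuleCat.of R R) ⟶ tilde N := (Point.selfIso R).hom ≫ c ≫ e.inv
  let g : ModuleCat.of R R ⟶ N := tilde.fullyFaithfulFunctor.preimage c'
  have hg : tilde.map g = c' := tilde.fullyFaithfulFunctor.map_preimage c'
  have hv : g.hom 1 ≠ 0 := fun h => hc <| by
    have hg0 : g = 0 := ModuleCat.hom_ext (LinearMap.ext_ring h)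
    have h1 : c' = 0 := by rw [← hg, hg0]; exact tilde.map_zero
    exact (cancel_mono e.inv).1 (((cancel_epi (Point.selfIso R).hom).1
      (h1.trans comp_zero.symm)).trans zero_comp.symm)
  obtain ⟨l, hl⟩ := hdual _ hv
  refine ⟨e.inv ≫ tilde.map (ModuleCat.ofHom l) ≫ (Point.selfIso R).hom, fun h => ?_⟩
  have h1 : (c' ≫ tilde.map (ModuleCat.ofHom l)) ≫ (Point.selfIso R).hom = 0 := by
    simp only [c', Category.assoc]
    rw [h, comp_zero]
  have h2 : tilde.map (g ≫ ModuleCat.ofHom l) = 0 := by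
    rw [tilde.map_comp, hg]
    exact (cancel_mono (Point.selfIso R).hom).1 (h1.trans zero_comp.symm)
  have h3 : g ≫ ModuleCat.ofHom l = 0 :=
    tilde.fullyFaithfulFunctor.map_injective (h2.trans tilde.map_zero.symm)
  exact hl (congrArg (fun φ => φ.hom 1) h3)

/-- Functionals detect vectors. -/
theorem exists_functional_comp {M : (Spec (CommRingCat.of k)).Modules}
    (c : Coh.structureModule (Spec (CommRingCat.of k)) ⟶ M) (hc : c ≠ 0) :
    ∃ α : M ⟶ Coh.structureModule (Spec (CommRingCat.of k)), c ≫ α ≠ 0 := by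
  obtain ⟨N, ⟨e⟩⟩ := Point.exists_tilde_iso M
  exact exists_comp_ne_zero e c hc fun v hv => exists_dual (K := k) N hv

variable (X : Scheme.{u}) [X.Over (Spec (CommRingCat.of k))] [IsProper (X ↘ Spec (CommRingCat.of k))]
  (hX : topologicalKrullDim X ≤ (1 : ℕ))
  [DCoh.HasRpush (X ↘ Spec (CommRingCat.of k))]
  (hf : DCoh.RpushPreservesQCoh (X ↘ Spec (CommRingCat.of k)))
  (a : DCoh.DQCoh (Spec (CommRingCat.of k)) ⥤ DCoh.DQCoh X)
  (adj : DCoh.RpushQ (X ↘ Spec (CommRingCat.of k)) hf ⊣ a)
  (O : DCoh.DQCoh (Spec (CommRingCat.of k)))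
  (eO : O.obj ≅ DCoh.inD (Spec (CommRingCat.of k)) (Coh.structureModule (Spec (CommRingCat.of k))))

local notation "p" => (X ↘ Spec (CommRingCat.of k))

include hX hf adj eO in
/-- Extension of maps into `ω` gives injectivity on `H¹`. -/
theorem h1_injective {F' F : X.Modules} (hF' : Coh.IsQCoh F') (hF : Coh.IsQCoh F) (b : F' ⟶ F)
    (hb : ∀ g' : F' ⟶ om a O, ∃ g : F ⟶ om a O, b ≫ g = g') :
    Function.Injective (Curves.LES.mapK k b 1) := by
  obtain ⟨ι, hι⟩ := exists_ι p hX hf a adj O eO
  haveI := hι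
  haveI : Projective (Coh.structureModule (Point.pt k)) := Groth.Agent.H56.CurveDual.Point.projective _
  let D := PullPushAdj.derivedAdjunction p
  haveI : (DCoh.Rpush p).PreservesZeroMorphisms :=
    haveI := D.isRightAdjoint
    Functor.preservesZeroMorphisms_of_preserves_terminal_object
  have hZ : ((DCoh.Rpush p).obj (sg F')).IsLE 0 := isLE_Rpush_sg p hX F' hF'
  let σ := DerivedCategory.singleFunctors X.Modules
  let e : ∀ G : X.Modules, sg G ≅ ((singleFunctor X.Modules 0).obj G)⟦(1 : ℤ)⟧ := fun G =>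
    ((σ.shiftIso 1 (-1) 0 (by lia)).app G).symm
  have he : (e F').inv ≫ (singleFunctor X.Modules (-1)).map b =
      ((singleFunctor X.Modules 0).map b)⟦(1 : ℤ)⟧' ≫ (e F).inv :=
    ((σ.shiftIso 1 (-1) 0 (by lia)).hom.naturality b).symm
  -- the transpose of a class killed by `b` is zero
  have key : ∀ w : DCoh.inD X (Coh.structureModule X) ⟶ sg F',
      w ≫ (singleFunctor X.Modules (-1)).map b = 0 → w = 0 := fun w hw => by
    let w1 := D.homEquiv _ _ ((lpullO p).hom ≫ w)
    have hw1 : w1 ≫ (DCoh.Rpush p).map ((singleFunctor X.Modules (-1)).map b) = 0 := by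
      rw [← Adjunction.homEquiv_naturality_right, Category.assoc, hw, comp_zero,
        Adjunction.homEquiv_unit, Functor.map_zero, comp_zero]
    have h1 : (homologyFunctor (Spec (CommRingCat.of k)).Modules 0).map w1 = 0 := by
      by_contra hne
      let c := (singleFunctorCompHomologyFunctorIso (Spec (CommRingCat.of k)).Modules 0).inv.app
          (Coh.structureModule (Spec (CommRingCat.of k))) ≫
        (homologyFunctor (Spec (CommRingCat.of k)).Modules 0).map w1
      obtain ⟨α, hα⟩ := exists_functional_comp c fun h => hne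
        ((cancel_epi ((singleFunctorCompHomologyFunctorIso (Spec (CommRingCat.of k)).Modules 0).inv.app _)).1
          (h.trans comp_zero.symm))
      obtain ⟨w', hw'⟩ := Heart.exists_to_single 0 hZ α
      obtain ⟨u, hu⟩ := tr_surjective p hf a adj O eO (isQCohD_sg F' hF') w'
      obtain ⟨g', hg'⟩ := exists_eq_sg p hX hf a adj O eO ι u
      obtain ⟨g, rfl⟩ := hb g'
      rw [hg', Functor.map_comp, Category.assoc,
        tr_precomp p hf a adj O eO (isQCohD_sg F hF) (isQCohD_sg F' hF')] at hu
      have h2 : w1 ≫ w' = 0 := by rw [← hu, ← Category.assoc, hw1, zero_comp]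
      have h3 := congrArg (homologyFunctor (Spec (CommRingCat.of k)).Modules 0).map h2
      rw [Functor.map_comp, hw', Functor.map_zero] at h3
      refine hα ((cancel_mono ((singleFunctorCompHomologyFunctorIso
        (Spec (CommRingCat.of k)).Modules 0).inv.app _)).1 ?_)
      refine Eq.trans ?_ zero_comp.symm
      simp only [c, Category.assoc]
      exact (congrArg (_ ≫ ·) h3).trans comp_zero
    have h4 : w1 = 0 := Heart.eq_zero_of_projective_of_homology hZ _ h1
    have h5 : (lpullO p).hom ≫ w = 0 := by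
      refine (D.homEquiv _ _).injective (h4.trans ?_)
      rw [Adjunction.homEquiv_unit, Functor.map_zero, comp_zero]
    exact (cancel_epi (lpullO p).hom).1 (h5.trans comp_zero.symm)
  -- transport to `H¹`
  let L' := ExtHH.Basic.extUnitEquiv k F' 1
  have hcomp : ∀ x, Curves.LES.mapK k b 1 (L' x) =
      ExtHH.Basic.extUnitEquiv k F 1 (x.comp (Abelian.Ext.mk₀ b) (add_zero 1)) := fun x =>
    (ExtHH.Basic.extHH_comp_mk₀ (𝟭 X.Modules) (𝟙 _) b 1 x).symm
  refine LinearMap.ker_eq_bot.1 (LinearMap.ker_eq_bot'.2 fun z hz => ?_)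
  obtain ⟨x, rfl⟩ := L'.surjective z
  rw [hcomp, LinearEquiv.map_eq_zero_iff] at hz
  suffices hx : x = 0 by rw [hx, map_zero]
  let w : DCoh.inD X (Coh.structureModule X) ⟶ sg F' :=
    (show DCoh.inD X (Coh.structureModule X) ⟶ _ from x.hom) ≫ (e F').inv
  have hw : w ≫ (singleFunctor X.Modules (-1)).map b = 0 := by
    have h6 : (x.comp (Abelian.Ext.mk₀ b) (add_zero 1)).hom =
        (show DCoh.inD X (Coh.structureModule X) ⟶ _ from x.hom) ≫
          ((singleFunctor X.Modules 0).map b)⟦(1 : ℤ)⟧' := by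
      rw [Abelian.Ext.comp_hom, Abelian.Ext.mk₀_hom, ShiftedHom.comp_mk₀]
      rfl
    have h7 : (x.comp (Abelian.Ext.mk₀ b) (add_zero 1)).hom = 0 :=
      (congrArg Abelian.Ext.homAddEquiv hz).trans (map_zero _)
    simp only [w, Category.assoc, he]
    rw [← Category.assoc, ← h6, h7]
    exact zero_comp
  have h8 := key w hw
  refine Abelian.Ext.homEquiv.injective ((cancel_mono (e F').inv).1 (h8.trans ?_))
  have h0 : (Abelian.Ext.homAddEquiv (0 : Abelian.Ext.{u} (Coh.structureModule X) F' 1)) = 0 := map_zero _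
  exact ((congrArg (· ≫ (e F').inv) h0).trans zero_comp).symm

end Groth.Agent.H60.GGDual.Inj
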