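import Groth.Agent.Lib.AlgSpDecent.IsolatedPt
import Groth.Agent.Lib.ZarCoh.Basic

/-!
# No isolated closed points when the global functions form a field
-/

set_option autoImplicit false
noncomputable section

universe u

open CategoryTheory CategoryTheory.Limits AlgebraicGeometry TopologicalSpace Opposite

namespace Groth.Agent.H60.GGDual.Isolated

variable {X : Scheme.{u}}

/-- A closed point with field local ring is open. -/
theorem isOpen_singleton_of_isField [IsLocallyNoetherian X] {x : X} (hx : IsClosed ({x} : Set X))
    (hfld : IsField (X.presheaf.stalk x)) : IsOpen ({x} : Set X) := by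
  refine Lib.AlgSpDecent.IsolatedPt.isOpen_singleton_of_extremal (fun y hy => ?_) fun y hy => ?_
  · have hmem : y ∈ Set.range (X.fromSpecStalk x) := by rw [Scheme.range_fromSpecStalk]; exact hy
    obtain ⟨P, rfl⟩ := hmem
    have hP : (show PrimeSpectrum (X.presheaf.stalk x) from P) = IsLocalRing.closedPoint (X.presheaf.stalk x) := by
      refine PrimeSpectrum.ext ?_
      letI := hfld.toField
      rcases Ideal.eq_bot_or_top (show PrimeSpectrum (X.presheaf.stalk x) from P).asIdeal with h | h
      · rw [h]
        exact (IsLocalRing.isField_iff_maximalIdeal_eq.1 hfld).symm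
      · exact absurd h (show PrimeSpectrum (X.presheaf.stalk x) from P).isPrime.ne_top
    exact (congrArg (fun Q => (X.fromSpecStalk x) Q) hP).trans (Scheme.fromSpecStalk_closedPoint)
  · exact hx.closure_subset (hy.mem_closure)

/-- A closed open point is everything when every nonzero global function is a unit. -/
theorem eq_of_isOpen_singleton (hΓ : ∀ a : Γ(X, ⊤), a ≠ 0 → IsUnit a) {x : X}
    (hx : IsClosed ({x} : Set X)) (ho : IsOpen ({x} : Set X)) (y : X) : y = x := by
  by_contra hy
  let U : Bool → X.Opens := fun b => if b then ⟨{x}, ho⟩ else ⟨({x} : Set X)ᶜ, hx.isOpen_compl⟩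
  let sf : ∀ b, Γ(X, U b) := fun b => if b then 0 else 1
  have hcov : (⊤ : X.Opens) ≤ iSup U := fun z _ => by
    by_cases hz : z = x
    · exact Opens.mem_iSup.2 ⟨true, hz⟩
    · exact Opens.mem_iSup.2 ⟨false, hz⟩
  have hcompat : TopCat.Presheaf.IsCompatible X.presheaf U sf := fun i j => by
    rcases eq_or_ne i j with rfl | hij
    · rfl
    · have hbot : U i ⊓ U j = ⊥ := by
        rw [eq_bot_iff]
        intro z hz
        cases i <;> cases j
        · exact absurd rfl hij
        · exact (hz.1 hz.2).elim
        · exact (hz.2 hz.1).elim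
        · exact absurd rfl hij
      haveI : Subsingleton Γ(X, U i ⊓ U j) := by rw [hbot]; infer_instance
      exact Subsingleton.elim _ _
  obtain ⟨e, he, -⟩ := X.sheaf.existsUnique_gluing' U ⊤ (fun b => homOfLE le_top) hcov sf hcompat
  have hgx : X.presheaf.germ ⊤ x trivial e = 0 := by
    have h1 : X.presheaf.map (homOfLE (le_top : U true ≤ ⊤)).op e = 0 := he true
    rw [← TopCat.Presheaf.germ_res_apply X.presheaf (homOfLE (le_top : U true ≤ ⊤)) x rfl e, h1, map_zero]
  have hgy : X.presheaf.germ ⊤ y trivial e = 1 := by
    have h1 : X.presheaf.map (homOfLE (le_top : U false ≤ ⊤)).op e = 1 := he false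
    rw [← TopCat.Presheaf.germ_res_apply X.presheaf (homOfLE (le_top : U false ≤ ⊤)) y hy e, h1, map_one]
  by_cases he0 : e = 0
  · subst he0
    exact zero_ne_one ((map_zero (X.presheaf.germ ⊤ y trivial).hom).symm.trans hgy)
  · have hu := (hΓ e he0).map (X.presheaf.germ ⊤ x trivial).hom
    rw [show (X.presheaf.germ ⊤ x trivial).hom e = 0 from hgx] at hu
    exact not_isUnit_zero hu

/-- Some closed point lies in the closure of each point. -/
theorem exists_closed_specialization [CompactSpace X] (η : X) :
    ∃ x : X, η ⤳ x ∧ IsClosed ({x} : Set X) := by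
  obtain ⟨x, hxη, hx⟩ := IsClosed.exists_closed_singleton (isClosed_closure (s := ({η} : Set X)))
    ⟨η, subset_closure rfl⟩
  exact ⟨x, specializes_iff_mem_closure.2 hxη, hx⟩

end Groth.Agent.H60.GGDual.Isolated
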