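import Groth.Agent.Lib.SqZeroLift.Tensor
import Groth.Agent.Lib.Ample.GG
import Groth.Agent.Lib.Ample.QAffCrit
import Groth.Agent.Lib.CohBasics.Closure
import Groth.Agent.H34.UFDExt.Gen

/-!
# Stalks of invertible modules and of the ideal of a closed point
-/

set_option autoImplicit false
set_option linter.style.haveILetI false
noncomputable section

universe u

open CategoryTheory CategoryTheory.Limits AlgebraicGeometry TopologicalSpace Opposite

namespace Groth.Agent.H60.GGDual.PointStalk

open Groth.Agent.Lib Groth.Agent.Lib.Modules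

variable {X : Scheme.{u}}

/-- An invertible module is free of rank one on stalks, with a generating section nearby. -/
theorem exists_gen_stalk {L : X.Modules} (hL : PicF.IsInvertible L) (x : X) :
    ∃ (U : X.Opens) (hx : x ∈ U) (e : Γ(L, U)) (β : X.presheaf.stalk x ≃ₗ[X.presheaf.stalk x] L.presheaf.stalk x),
      TensorMod.Gen.IsGen L U e ∧ β 1 = L.presheaf.germ U x hx e := by
  obtain ⟨U, e, hx, he⟩ := TensorMod.Gen.isInvertible_iff.1 hL x
  refine ⟨U, hx, e, LinearEquiv.ofBijective
    (LinearMap.toSpanSingleton (X.presheaf.stalk x) (L.presheaf.stalk x) (L.presheaf.germ U x hx e))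
    (H34.UFDExt.Gen.IsGen.stalk_bijective (M := L) (fun W h => he W h) hx : _), he, ?_⟩
  exact one_smul (X.presheaf.stalk x) (L.presheaf.germ U x hx e)

/-- The germs at `y` of the ideal of a closed set. -/
theorem mem_range_aι (Z : Closeds X) {x : X} (r : X.presheaf.stalk x) (V : X.Opens) (hxV : x ∈ V)
    (hr : ∀ z, z ∈ Z → z ∈ V → z = x ∧ r ∈ IsLocalRing.maximalIdeal (X.presheaf.stalk x)) :
    r ∈ LinearMap.range (SqZeroLift.aι (Scheme.IdealSheafData.vanishingIdeal Z) x) := by
  set I := Scheme.IdealSheafData.vanishingIdeal (X := X) Z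
  obtain ⟨V₁, hxV₁, s, rfl⟩ := TopCat.Presheaf.exists_germ_eq X.presheaf r
  obtain ⟨W, hW, hxW, hWV⟩ := exists_isAffineOpen_mem_and_subset (U := V₁ ⊓ V) (x := x) ⟨hxV₁, hxV⟩
  have hW₁ : W ≤ V₁ := fun y hy => (hWV hy).1
  let s' : Γ(X, W) := X.presheaf.map (homOfLE hW₁).op s
  have e : X.presheaf.germ W x hxW s' = X.presheaf.germ V₁ x hxV₁ s :=
    TopCat.Presheaf.germ_res_apply X.presheaf (homOfLE hW₁) x hxW s
  have hs : s' ∈ I.ideal ⟨W, hW⟩ := by
    rw [Scheme.IdealSheafData.vanishingIdeal_ideal, PrimeSpectrum.mem_vanishingIdeal]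
    intro p hp
    by_contra hc
    have h1 : hW.fromSpec p ∈ X.basicOpen s' := (hW.fromSpec_preimage_basicOpen s').ge hc
    have hpW : hW.fromSpec p ∈ W := by
      rw [← SetLike.mem_coe, ← hW.range_fromSpec]; exact Set.mem_range_self p
    obtain ⟨hpx, hrm⟩ := hr _ hp (hWV hpW).2
    rw [hpx] at h1
    exact (IsLocalRing.mem_maximalIdeal _).mp hrm (e ▸ (X.mem_basicOpen s' x hxW).mp h1)
  have hk : I.subschemeι.app W s' = 0 := by
    rw [← I.ker_subschemeι_app ⟨W, hW⟩] at hs
    exact hs
  obtain ⟨m, hm⟩ := (ClSub.Sections.mem_range_idealModι_app_iff I W s').2 hk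
  exact ⟨_, by rw [SqZeroLift.aι_germ I hxW m, hm, e]⟩

/-- The germs of the ideal at its points are non-units. -/
theorem aι_mem_maximalIdeal (Z : Closeds X) {x : X} (hx : x ∈ Z)
    (t : (ClSub.idealMod (Scheme.IdealSheafData.vanishingIdeal Z)).presheaf.stalk x) :
    SqZeroLift.aι (Scheme.IdealSheafData.vanishingIdeal Z) x t ∈
      IsLocalRing.maximalIdeal (X.presheaf.stalk x) := by
  let I := Scheme.IdealSheafData.vanishingIdeal (X := X) Z
  have key : ∀ y ∈ Set.range I.subschemeι, ∀ t, ¬ IsUnit (SqZeroLift.aι I y t) := by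
    rintro _ ⟨z, rfl⟩ t hu
    have h0 := hu.map (I.subschemeι.stalkMap z).hom
    rw [SqZeroLift.stalkMap_aι] at h0
    exact not_isUnit_zero h0
  refine (IsLocalRing.mem_maximalIdeal _).mpr (key x ?_ t)
  rw [Scheme.IdealSheafData.range_subschemeι, Scheme.IdealSheafData.coe_support_vanishingIdeal]
  exact hx

/-- The ideal module of a closed subscheme is coherent. -/
theorem isCoh_idealMod [IsLocallyNoetherian X] (K : X.IdealSheafData) : Coh.IsCoh (ClSub.idealMod K) := by
  haveI := Ample.QAffCrit.isQCoh_idealMod K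
  refine CohBasics.Closure.isCoh_of_finite_sections fun W hW => ?_
  haveI : IsNoetherianRing Γ(X, W) := IsLocallyNoetherian.component_noetherian ⟨W, hW⟩
  haveI : Mono (_root_.ClSub.idealModι K) := (ClSub.Quot.idealSeq_shortExact K).mono_f
  let f : Γ(ClSub.idealMod K, W) →ₗ[Γ(X, W)] Γ(X, W) :=
    { toFun := fun t => ((_root_.ClSub.idealModι K).app W t : Γ(X, W))
      map_add' := fun s t => map_add _ s t
      map_smul' := fun c t => Scheme.Modules.Hom.app_smul _ c t }
  exact Module.Finite.of_injective f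
    ((Modules.Stalk.mono_iff_app_injective _).1 inferInstance W)

end Groth.Agent.H60.GGDual.PointStalk
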