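import Groth.Agent.Lib.Curves.SectionSurj
import Groth.Agent.H60.GGDual.PointStalk
import Groth.Agent.Lib.Modules.SupportOps
import Groth.Agent.Lib.DerivedOX.FlatTensor
import Groth.Agent.Lib.TensorMod.TensorQCoh
import Groth.Agent.Lib.SurfInt.Effective
import Groth.Agent.H34.DefAmple
import Groth.Agent.H34.GlobGen

/-!
# Multiplication by a section of an invertible module, and the test module at a zero of the section
-/

set_option autoImplicit false
set_option linter.style.haveILetI false
set_option linter.unusedSectionVars false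
set_option maxHeartbeats 800000
noncomputable section

universe u

open CategoryTheory CategoryTheory.Limits AlgebraicGeometry TopologicalSpace Opposite
open scoped TensorProduct

namespace Groth.Agent.H60.GGDual.Sections

open Groth.Agent.Lib
open Groth.Agent.Lib.Modules.StalkModule (stalkMapₗ stalkMapₗ_germ stalkMapₗ_comp)
open Groth.Agent.Lib.DerivedOX.TensorSheaf (tensorStalk tensorStalk_natural)
open Groth.Agent.Lib.TensorMod.Basic (tensorBy leftUnit)
open Groth.Agent.Lib.Curves.SectionSurj (mulHom tensorStalk_mulHom exists_stalkEquiv)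

variable {X : Scheme.{u}}

/-- The stalk of `f ⊗ L` is `f ⊗ L`. -/
theorem tensorStalk_by (N : X.Modules) {M M' : X.Modules} (f : M ⟶ M') (x : X)
    (z : ((tensorBy N).obj M).presheaf.stalk x) :
    tensorStalk x M' N (stalkMapₗ ((tensorBy N).map f) x z) =
      TensorProduct.map (stalkMapₗ f x) LinearMap.id (tensorStalk x M N z) := by
  have h := tensorStalk_natural x f (𝟙 N) z
  rw [Modules.StalkModule.stalkMapₗ_id, CategoryTheory.Functor.map_id, Category.comp_id] at h
  have e : (tensorBy N).map f = (DCoh.tensorBi.map f).app N := by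
    change (DCoh.shP).map (MonoidalCategory.tensorHom (DCoh.toP.map f) (DCoh.toP.map (𝟙 N))) = _
    rw [CategoryTheory.Functor.map_id, MonoidalCategory.tensorHom_id]
    rfl
  rw [e]
  exact h

variable {L : X.Modules}

/-- `f ⊗ L`. -/
abbrev tmapR (L : X.Modules) {F G : X.Modules} (f : F ⟶ G) : CohB1.tensorMod F L ⟶ CohB1.tensorMod G L :=
  (tensorBy L).map f

/-- Multiplication by a section is natural. -/
theorem mulHom_natural {F G : X.Modules} (h : F ⟶ G) (s : Γ(L, ⊤)) :
    mulHom F s ≫ tmapR L h = h ≫ mulHom G s := by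
  refine Modules.StalkModule.hom_ext_stalkMapₗ fun x => LinearMap.ext fun v => ?_
  refine (tensorStalk x G L).injective ?_
  rw [stalkMapₗ_comp, stalkMapₗ_comp, LinearMap.comp_apply, LinearMap.comp_apply]
  refine (tensorStalk_by L h x _).trans ?_
  refine (congrArg (TensorProduct.map (stalkMapₗ h x) LinearMap.id) (tensorStalk_mulHom x F s v)).trans ?_
  exact (TensorProduct.map_tmul _ _ _ _).trans (tensorStalk_mulHom x G s _).symm

/-- A map out of `F ⊗ L` killed by all global sections of a globally generated `L` is zero. -/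
theorem eq_zero_of_mulHom (hgg : Curv2.IsGloballyGenerated L) {F G : X.Modules}
    (g : CohB1.tensorMod F L ⟶ G) (h : ∀ s : Γ(L, ⊤), mulHom F s ≫ g = 0) : g = 0 := by
  refine Modules.StalkModule.hom_ext_stalkMapₗ fun x => ?_
  rw [Modules.StalkModule.stalkMapₗ_zero]
  have hl := H34.GlobGen.gl_eq_top_of_gg hgg x
  let φ := (stalkMapₗ g x).comp (tensorStalk x F L).symm.toLinearMap
  suffices hφ : ∀ t, φ t = 0 by
    refine LinearMap.ext fun z => ?_
    have h1 := hφ (tensorStalk x F L z)
    exact ((congrArg (stalkMapₗ g x) ((tensorStalk x F L).symm_apply_apply z)).symm.trans h1)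
  intro t
  induction t using TensorProduct.induction_on with
  | zero => exact map_zero φ
  | add a b ha hb => rw [map_add, ha, hb, add_zero]
  | tmul v w =>
    have hw : w ∈ H34.GlobGen.Gl L x := hl ▸ Submodule.mem_top
    unfold H34.GlobGen.Gl at hw
    induction hw using Submodule.span_induction with
    | mem w hw =>
      obtain ⟨s, rfl⟩ := hw
      have h1 := congrArg (fun q => stalkMapₗ q x v) (h s)
      simp only [stalkMapₗ_comp, LinearMap.comp_apply, Modules.StalkModule.stalkMapₗ_zero,
        LinearMap.zero_apply] at h1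
      change stalkMapₗ g x ((tensorStalk x F L).symm (v ⊗ₜ L.presheaf.germ ⊤ x trivial s)) = 0
      rw [← tensorStalk_mulHom x F s v]
      exact (congrArg (stalkMapₗ g x) ((tensorStalk x F L).symm_apply_apply _)).trans h1
    | zero => rw [TensorProduct.tmul_zero, map_zero]
    | add a b _ _ ha hb => rw [TensorProduct.tmul_add, map_add, ha, hb, add_zero]
    | smul r a _ ha => rw [TensorProduct.tmul_smul, map_smul, ha, smul_zero]

variable (hL : PicF.IsInvertible L)

include hL in
theorem isFlat_of_invertible : FlatMod.IsFlat L := fun x => by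
  obtain ⟨U, hx, e, β, -, -⟩ := PointStalk.exists_gen_stalk hL x
  exact Module.Flat.of_linearEquiv β.symm

include hL in
/-- Tensoring with an invertible module preserves monomorphisms. -/
theorem mono_tensorBy {M M' : X.Modules} (f : M ⟶ M') [Mono f] : Mono ((tensorBy L).map f) := by
  rw [Modules.StalkModule.mono_iff_stalkMapₗ_injective]
  intro x a b hab
  haveI : Module.Flat (X.presheaf.stalk x) (L.presheaf.stalk x) := isFlat_of_invertible hL x
  apply (tensorStalk x M L).injective
  apply Module.Flat.rTensor_preserves_injective_linearMap (stalkMapₗ f x)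
    ((Modules.StalkModule.mono_iff_stalkMapₗ_injective f).1 inferInstance x)
  exact ((tensorStalk_by L f x a).symm.trans (congrArg (tensorStalk x M' L) hab)).trans
    (tensorStalk_by L f x b)

include hL in
/-- A kernel absorbs multiplication by a section killing the quotient. -/
theorem exists_kernel_lift {I T : X.Modules} (q : I ⟶ T) [Epi q] (s : Γ(L, ⊤))
    (hT : mulHom T s = 0) :
    ∃ σ : I ⟶ CohB1.tensorMod (kernel q) L, kernel.ι q ≫ σ = mulHom (kernel q) s := by
  let S : ShortComplex X.Modules := ShortComplex.mk (kernel.ι q) q (kernel.condition q)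
  have hS : S.Exact := ShortComplex.exact_of_f_is_kernel _ (kernelIsKernel q)
  haveI : Epi S.g := ‹Epi q›
  obtain ⟨w, hw⟩ := H34.HOne.exact_tensor L hS
  obtain ⟨hex, -⟩ := hw w
  haveI hm := mono_tensorBy hL (kernel.ι q)
  have h0 : mulHom I s ≫ tmapR L q = 0 := by rw [mulHom_natural, hT, comp_zero]
  haveI : Mono (ShortComplex.mk ((tensorBy L).map S.f) ((tensorBy L).map S.g) w).f := hm
  haveI : Mono (tmapR L (kernel.ι q)) := hm
  refine ⟨hex.lift (mulHom I s) h0, (cancel_mono (tmapR L (kernel.ι q))).1 ?_⟩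
  refine (Category.assoc _ _ _).trans ?_
  exact (congrArg (kernel.ι q ≫ ·) (hex.lift_f (mulHom I s) h0)).trans (mulHom_natural (kernel.ι q) s).symm

include hL in
/-- Multiplication by a section vanishes on modules killed by its coefficient. -/
theorem mulHom_eq_zero (T : X.Modules) (s : Γ(L, ⊤))
    (h : ∀ x, ∀ β : X.presheaf.stalk x ≃ₗ[X.presheaf.stalk x] L.presheaf.stalk x,
      ∀ v : T.presheaf.stalk x, β.symm (L.presheaf.germ ⊤ x trivial s) • v = 0) :
    mulHom T s = 0 := by
  refine Modules.StalkModule.hom_ext_stalkMapₗ fun x => LinearMap.ext fun v => ?_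
  obtain ⟨U, hx, e, β, -, -⟩ := PointStalk.exists_gen_stalk hL x
  obtain ⟨θ, hθ⟩ := exists_stalkEquiv x T β
  rw [Modules.StalkModule.stalkMapₗ_zero, LinearMap.zero_apply]
  refine θ.injective ?_
  rw [hθ s v, h x β v, map_zero]

include hL in
/-- Where the coefficient is a unit the section generates. -/
theorem mem_locus_of_isUnit (s : Γ(L, ⊤)) {x : X}
    (β : X.presheaf.stalk x ≃ₗ[X.presheaf.stalk x] L.presheaf.stalk x)
    (hu : IsUnit (β.symm (L.presheaf.germ ⊤ x trivial s))) : x ∈ ProjMor.Sec.locus s := by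
  obtain ⟨U, hx, e, b, he, hb⟩ := PointStalk.exists_gen_stalk hL x
  obtain ⟨a, ha⟩ := Ample.GenLocus.exists_coord he (ProjMor.Sec.gl s U)
  have hc : b.symm (L.presheaf.germ ⊤ x trivial s) = X.presheaf.germ U x hx a := by
    refine b.symm_apply_eq.mpr ?_
    rw [← mul_one (X.presheaf.germ U x hx a), ← smul_eq_mul, map_smul, hb,
      ← Modules.StalkModule.germ_smul]
    refine ((TopCat.Presheaf.germ_res_apply L.presheaf (homOfLE le_top) x hx s).symm).trans ?_
    exact congrArg _ ha
  have hu' : IsUnit (b.symm (L.presheaf.germ ⊤ x trivial s)) := by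
    obtain ⟨d, hd⟩ := hu.exists_left_inv
    refine IsUnit.of_mul_eq_one (d * β.symm (b 1)) ?_
    set g := L.presheaf.germ ⊤ x trivial s
    have h1 : g = b.symm g • b 1 := by rw [← map_smul, smul_eq_mul, mul_one, LinearEquiv.apply_symm_apply]
    have h2 : β.symm g = b.symm g * β.symm (b 1) := by
      conv_lhs => rw [h1]
      rw [map_smul, smul_eq_mul]
    refine Eq.trans ?_ hd
    rw [h2]
    ring
  exact ((ProjMor.Sec.locus_inf_eq he ha).ge ((X.toRingedSpace.mem_basicOpen a x hx).2 (hc ▸ hu'))).1

/-- A section generating everywhere trivialises. -/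
theorem nonempty_iso_of_locus (s : Γ(L, ⊤)) (h : ∀ x, x ∈ ProjMor.Sec.locus s) :
    Nonempty (Coh.structureModule X ≅ L) := by
  let φ := Modules.Free.unitHom L s
  haveI : IsIso φ := by
    refine (Modules.StalkModule.isIso_iff_stalkMapₗ_bijective φ).2 fun x => ?_
    have hb : Function.Bijective fun r : X.presheaf.stalk x => r • L.presheaf.germ ⊤ x trivial s := by
      have h1 := H34.UFDExt.Gen.IsGen.stalk_bijective (M := L)
        (fun W hW => ProjMor.Sec.isGen_locus s W hW) (y := x) (h x)
      have h2 : L.presheaf.germ (ProjMor.Sec.locus s) x (h x) (ProjMor.Sec.gl s _) =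
          L.presheaf.germ ⊤ x trivial s :=
        TopCat.Presheaf.germ_res_apply L.presheaf (homOfLE le_top) x (h x) s
      rw [← h2]
      exact h1
    have ho := (SurfInt.Stalk.oStalk x).bijective
    have key : ∀ v, stalkMapₗ φ x v = SurfInt.Stalk.oStalk x v • L.presheaf.germ ⊤ x trivial s := by
      intro v
      have hu : SurfInt.Stalk.oStalk x ((Coh.structureModule X).presheaf.germ ⊤ x trivial (1 : Γ(X, ⊤))) = 1 := by
        exact (SurfInt.Stalk.oStalk_germ (U := ⊤) trivial _).trans (map_one _)
      have hv : v = SurfInt.Stalk.oStalk x v •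
          (Coh.structureModule X).presheaf.germ ⊤ x trivial (1 : Γ(X, ⊤)) :=
        (SurfInt.Stalk.oStalk x).injective (by rw [map_smul, hu, smul_eq_mul, mul_one])
      conv_lhs => rw [hv]
      rw [map_smul]
      exact congrArg (_ • ·) ((stalkMapₗ_germ φ (U := ⊤) trivial _).trans
        (congrArg (L.presheaf.germ ⊤ x trivial) (Modules.Free.unitHom_app_one L s)))
    have : (stalkMapₗ φ x : _ → _) = (fun r : X.presheaf.stalk x => r • L.presheaf.germ ⊤ x trivial s) ∘
        SurfInt.Stalk.oStalk x := funext key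
    rw [this]
    exact hb.comp ho
  exact ⟨asIso φ⟩

/-- `I ⟶ Q ⊗ I` induced by `O ⟶ Q`. -/
def toTensor (I : X.Modules) {Q : X.Modules} (π : Coh.structureModule X ⟶ Q) :
    I ⟶ CohB1.tensorMod Q I :=
  (leftUnit I).inv ≫ tmapR I π

theorem epi_toTensor (I : X.Modules) {Q : X.Modules} (π : Coh.structureModule X ⟶ Q) [Epi π] :
    Epi (toTensor I π) := by
  haveI : Epi (tmapR I π) := H34.HOne.epi_tensor I π
  exact @epi_comp _ _ _ _ _ (leftUnit I).inv inferInstance (tmapR I π) inferInstance

theorem smul_tensor_eq_zero (Q I : X.Modules) {x : X} {c : X.presheaf.stalk x}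
    (h : ∀ a : Q.presheaf.stalk x, c • a = 0) (v : (CohB1.tensorMod Q I).presheaf.stalk x) : c • v = 0 := by
  refine (tensorStalk x Q I).injective ?_
  refine ((tensorStalk x Q I).map_smul c v).trans (Eq.trans ?_ (map_zero _).symm)
  refine TensorProduct.induction_on (motive := fun t => c • t = 0) (tensorStalk x Q I v) (smul_zero _) (fun a b => ?_) fun a b ha hb => ?_
  · rw [TensorProduct.smul_tmul', h a]
    exact TensorProduct.zero_tmul _ _
  · rw [smul_add, ha, hb, add_zero]

theorem smul_of_factor {I Q : X.Modules} (ι : I ⟶ Coh.structureModule X) (π : Coh.structureModule X ⟶ Q) [Epi π]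
    (w : ι ≫ π = 0) {x : X} {c : X.presheaf.stalk x} (a : I.presheaf.stalk x)
    (ha : SurfInt.Stalk.oStalk x (stalkMapₗ ι x a) = c) (v : Q.presheaf.stalk x) : c • v = 0 := by
  obtain ⟨r, rfl⟩ := (Modules.StalkModule.epi_iff_stalkMapₗ_surjective π).1 inferInstance x v
  have h1 : c • r = SurfInt.Stalk.oStalk x r • stalkMapₗ ι x a := by
    refine (SurfInt.Stalk.oStalk x).injective ?_
    rw [map_smul, map_smul, smul_eq_mul, smul_eq_mul, ha, mul_comm]
  rw [← map_smul, h1, map_smul, ← LinearMap.comp_apply, ← stalkMapₗ_comp, w,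
    Modules.StalkModule.stalkMapₗ_zero, LinearMap.zero_apply, smul_zero]

section Point

variable {x : X} (hx : IsClosed ({x} : Set X))

/-- The ideal sheaf of a closed point. -/
abbrev ptI : X.IdealSheafData := Scheme.IdealSheafData.vanishingIdeal ⟨{x}, hx⟩

/-- `I/I²` at a closed point, as `(O/I) ⊗ I`. -/
abbrev tq : X.Modules := CohB1.tensorMod (ClSub.quotMod (ptI hx)) (ClSub.idealMod (ptI hx))

/-- `I ⟶ I/I²`. -/
def toTq : ClSub.idealMod (ptI hx) ⟶ tq hx :=
  toTensor (ClSub.idealMod (ptI hx)) (ClSub.toSubscheme (ptI hx))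

theorem epi_toTq : Epi (toTq hx) :=
  @epi_toTensor X (ClSub.idealMod (ptI hx)) _ (ClSub.toSubscheme (ptI hx)) (ClSub.Quot.epi_toSubscheme _)

theorem subsingleton_tq {y : X} (hy : y ≠ x) : Subsingleton ((tq hx).presheaf.stalk y) := by
  refine H34.DefAmple.subsingleton_stalk_tensor _ ?_
  rw [← Modules.Support.not_mem_support_iff, ClSub.Quot.support_quotMod,
    Scheme.IdealSheafData.coe_support_vanishingIdeal]
  exact hy

theorem smul_tq_eq_zero {c : X.presheaf.stalk x} (hc : c ∈ IsLocalRing.maximalIdeal _)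
    (v : (tq hx).presheaf.stalk x) : c • v = 0 := by
  refine smul_tensor_eq_zero _ _ (fun q => ?_) v
  obtain ⟨a, ha⟩ := PointStalk.mem_range_aι ⟨{x}, hx⟩ c ⊤ trivial fun z hz _ => ⟨hz, hc⟩
  exact @smul_of_factor X _ _ (ClSub.idealModι (ptI hx)) (ClSub.toSubscheme (ptI hx))
    (ClSub.Quot.epi_toSubscheme _) (ClSub.Quot.idealModι_toSubscheme _) x c a ha q

include hL in
/-- A section vanishing at `x` kills `I/I²`. -/
theorem mulHom_tq (s : Γ(L, ⊤)) (hs : x ∉ ProjMor.Sec.locus s) : mulHom (tq hx) s = 0 := by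
  refine mulHom_eq_zero hL _ s fun y β v => ?_
  by_cases hy : y = x
  · subst hy
    exact smul_tq_eq_zero hx ((IsLocalRing.mem_maximalIdeal _).2 fun hu => hs (mem_locus_of_isUnit hL s β hu)) v
  · exact @Subsingleton.elim _ (subsingleton_tq hx hy) _ _

theorem not_isZero_tq [IsLocallyNoetherian X] (hfld : ¬ IsField (X.presheaf.stalk x)) :
    ¬ IsZero (tq hx) := by
  intro hz
  have hQ : Coh.IsCoh (ClSub.quotMod (ptI hx)) := SurfInt.Effective.isCoh_quotMod _
  have hI : Coh.IsCoh (ClSub.idealMod (ptI hx)) := PointStalk.isCoh_idealMod _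
  haveI := hQ.2
  haveI := hI.2
  have hsupp := Modules.SupportOps.support_tensorMod (ClSub.quotMod (ptI hx)) (ClSub.idealMod (ptI hx))
  have h1 : x ∈ CohB1.support (tq hx) := by
    rw [hsupp]
    refine ⟨by rw [ClSub.Quot.support_quotMod, Scheme.IdealSheafData.coe_support_vanishingIdeal]; rfl, ?_⟩
    intro hsub
    apply hfld
    refine IsLocalRing.isField_iff_maximalIdeal_eq.2 ((Submodule.eq_bot_iff _).2 fun c hc => ?_)
    obtain ⟨a, ha⟩ := PointStalk.mem_range_aι ⟨{x}, hx⟩ c ⊤ trivial fun z hz _ => ⟨hz, hc⟩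
    rw [← ha, @Subsingleton.elim _ hsub a 0, map_zero]
  exact h1 (Modules.Stalk.isZero_iff_stalk_subsingleton.1 hz x)

end Point

end Groth.Agent.H60.GGDual.Sections
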