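import Groth.Agent.H60.GGDual.Inj
import Groth.Agent.H60.GGDual.Sections
import Groth.Agent.H60.GGDual.Isolated
import Groth.Agent.H56.CurveDual.Consts
import Groth.Agent.Lib.QCoh.Closure
import Groth.Agent.Lib.TensorMod.QCohInv

/-!
# `H¹(ω ⊗ L) = 0` for a nontrivial globally generated invertible `L` on a curve
-/

set_option autoImplicit false
set_option linter.style.haveILetI false
set_option linter.unusedSectionVars false
set_option maxHeartbeats 800000

universe u

open CategoryTheory CategoryTheory.Limits AlgebraicGeometry TopologicalSpace Opposite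

attribute [local instance] HasDerivedCategory.standard

namespace Groth.Agent.H60.GGDual.Main

open Groth.Agent.Lib Groth.Agent.H56.CurveDual Groth.Agent.H60.GGDual.Sections
open Groth.Agent.Lib.Curves.SectionSurj (mulHom)
open Groth.Agent.Lib.TensorMod.Basic (tensorBy)

variable {k : Type u} [Field k] (X : Scheme.{u}) [X.Over (Spec (CommRingCat.of k))]

theorem isUnit_of_ne_zero (hk : IsIso (X ↘ Spec (CommRingCat.of k)).appTop) (a : Γ(X, ⊤)) (ha : a ≠ 0) :
    IsUnit a := by
  haveI := hk
  let c := X ↘ Spec (CommRingCat.of k)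
  obtain ⟨b, rfl⟩ := (ConcreteCategory.bijective_of_isIso c.appTop).2 a
  obtain ⟨r, rfl⟩ := (ConcreteCategory.bijective_of_isIso (Scheme.ΓSpecIso (CommRingCat.of k)).inv).2 b
  have hr : r ≠ 0 := fun h => ha (by rw [h, map_zero]; exact map_zero c.appTop.hom)
  exact ((IsUnit.mk0 (show k from r) hr).map (Scheme.ΓSpecIso (CommRingCat.of k)).inv.hom).map c.appTop.hom

/-- Flasque torsion modules without sections vanish. -/
theorem isZero_of_torsion [IsLocallyNoetherian X] [CompactSpace X] {C : X.Modules}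
    (hC : ∀ x, ¬ IsClosed ({x} : Set X) → Subsingleton (C.presheaf.stalk x))
    (hsub : Subsingleton (Coh.HH X C 0)) : IsZero C := by
  haveI := H34.DefAmple.isFlasque_toAb hC
  refine Modules.Stalk.isZero_iff_stalk_subsingleton.2 fun x => subsingleton_of_forall_eq 0 fun v => ?_
  obtain ⟨U, hU, s, rfl⟩ := TopCat.Presheaf.exists_germ_eq C.presheaf v
  obtain ⟨t, ht⟩ := Lib.ZarCoh.Basic.flasque_surjective (X := X.toTopCat) (Coh.toAb C) (le_top : U ≤ ⊤) s
  haveI hs := (Curves.GlobalSections.h0Equiv C).symm.injective.subsingleton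
  have ht0 : t = 0 := @Subsingleton.elim _ hs t 0
  rw [← ht, ht0, map_zero]
  exact map_zero _

/-- A section of the ideal of a closed point over `X` is zero. -/
theorem ptI_section_eq_zero (hΓ : ∀ a : Γ(X, ⊤), a ≠ 0 → IsUnit a) {x : X} (hx : IsClosed ({x} : Set X))
    (t : Γ(ClSub.idealMod (ptI hx), ⊤)) : t = 0 := by
  by_cases h0 : (show Γ(X, ⊤) from (ClSub.idealModι (ptI hx)).app ⊤ t) = 0
  · refine TopCat.Presheaf.section_ext ⟨(ClSub.idealMod (ptI hx)).presheaf, (Coh.toAb (ClSub.idealMod (ptI hx))).property⟩ ⊤ t 0 fun y _ => ?_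
    refine SqZeroLift.aι_injective (ptI hx) y ((SqZeroLift.aι_germ (ptI hx) (W := ⊤) (Opens.mem_top y) t).trans ?_)
    rw [map_zero, map_zero]
    exact (congrArg (X.presheaf.germ ⊤ y trivial).hom h0).trans (map_zero _)
  · have hu := (hΓ _ h0).map (X.presheaf.germ ⊤ x trivial).hom
    have hm := PointStalk.aι_mem_maximalIdeal (X := X) ⟨{x}, hx⟩ (x := x) rfl
      ((ClSub.idealMod (ptI hx)).presheaf.germ ⊤ x trivial t)
    have e := SqZeroLift.aι_germ (ptI hx) (W := ⊤) (Opens.mem_top x) t
    exact absurd hu ((IsLocalRing.mem_maximalIdeal _).1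
      ((congrArg (· ∈ IsLocalRing.maximalIdeal (X.presheaf.stalk x)) e).mp hm))

variable [IsProper (X ↘ Spec (CommRingCat.of k))]
  [DCoh.HasRpush (X ↘ Spec (CommRingCat.of k))]
  (hf : DCoh.RpushPreservesQCoh (X ↘ Spec (CommRingCat.of k)))
  (a : DCoh.DQCoh (Spec (CommRingCat.of k)) ⥤ DCoh.DQCoh X)
  (adj : DCoh.RpushQ (X ↘ Spec (CommRingCat.of k)) hf ⊣ a)
  (O : DCoh.DQCoh (Spec (CommRingCat.of k)))
  (eO : O.obj ≅ DCoh.inD (Spec (CommRingCat.of k)) (Coh.structureModule (Spec (CommRingCat.of k))))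

include hf adj eO in
theorem subsingleton_HH_one (hdim : topologicalKrullDim X = 1)
    (hk : IsIso (X ↘ Spec (CommRingCat.of k)).appTop)
    (L : X.Modules) (hL : PicF.IsInvertible L) (hgg : Curv2.IsGloballyGenerated L)
    (hnt : IsEmpty (L ≅ Coh.structureModule X)) :
    Subsingleton (Coh.HH X (CohB1.tensorMod (Duality.om a O) L) 1) := by
  let p := X ↘ Spec (CommRingCat.of k)
  haveI := LocallyOfFiniteType.isLocallyNoetherian p
  haveI : CompactSpace X := QuasiCompact.compactSpace_of_compactSpace p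
  let ω := Duality.om a O
  haveI hωq : ω.IsQuasicoherent := (a.obj O).property (-1)
  haveI hLq : L.IsQuasicoherent := TensorMod.QCohInv.isQCoh_of_isInvertible hL
  refine Duality.subsingleton_HH_one p hdim.le hf a adj O eO _
    (TensorMod.TensorQCoh.isQCoh_tensorMod ω L) fun g => eq_zero_of_mulHom hgg g fun s => ?_
  by_contra hne
  haveI := Duality.isIso_of_ne_zero p hdim.le hf a adj O eO hk (mulHom ω s ≫ g) hne
  let r := g ≫ CategoryTheory.inv (mulHom ω s ≫ g)
  have hr : mulHom ω s ≫ r = 𝟙 ω := by rw [← Category.assoc]; exact IsIso.hom_inv_id _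
  refine hnt.false ((nonempty_iso_of_locus s fun η => ?_).some.symm)
  obtain ⟨x, hηx, hx⟩ := Isolated.exists_closed_specialization η
  refine hηx.mem_open (ProjMor.Sec.locus s).2 ?_
  by_contra hs
  -- `X` has no isolated closed point
  have hΓ := isUnit_of_ne_zero X hk
  have hfld : ¬ IsField (X.presheaf.stalk x) := fun hF => by
    have hall := Isolated.eq_of_isOpen_singleton hΓ hx (Isolated.isOpen_singleton_of_isField hx hF)
    have : topologicalKrullDim X ≤ 0 := by
      haveI : Subsingleton X := ⟨fun u v => (hall u).trans (hall v).symm⟩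
      haveI : Subsingleton (IrreducibleCloseds X) := ⟨fun A B => SetLike.coe_injective (by
        obtain ⟨u, hu⟩ := A.2.nonempty
        obtain ⟨v, hv⟩ := B.2.nonempty
        exact Set.ext fun z => ⟨fun _ => Subsingleton.elim v z ▸ hv, fun _ => Subsingleton.elim u z ▸ hu⟩)⟩
      exact Order.krullDim_nonpos_of_subsingleton
    rw [hdim] at this
    exact absurd this (by norm_num)
  let T := tq hx
  let q := toTq hx
  haveI := epi_toTq hx
  haveI hIq : (ClSub.idealMod (ptI hx)).IsQuasicoherent := Ample.QAffCrit.isQCoh_idealMod _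
  haveI hQq : (ClSub.quotMod (ptI hx)).IsQuasicoherent := (SurfInt.Effective.isCoh_quotMod _).1
  haveI hTq : T.IsQuasicoherent := TensorMod.TensorQCoh.isQCoh_tensorMod _ _
  haveI hJq : (kernel q).IsQuasicoherent := QCoh.Closure.isQCoh_kernel q
  -- multiplication by `s` is injective on `H¹`
  have hinj : Function.Injective (Curves.LES.mapK k (mulHom (kernel q) s) 1) :=
    Inj.h1_injective X hdim.le hf a adj O eO hJq (TensorMod.TensorQCoh.isQCoh_tensorMod _ L) _ fun h =>
      ⟨tmapR L h ≫ r, by
        rw [← Category.assoc, mulHom_natural, Category.assoc, hr]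
        exact Category.comp_id h⟩
  obtain ⟨σ, hσ⟩ := exists_kernel_lift hL q s (mulHom_tq hL hx s hs)
  let S : ShortComplex X.Modules := ShortComplex.mk (kernel.ι q) q (kernel.condition q)
  have hS : S.ShortExact :=
    { exact := ShortComplex.exact_of_f_is_kernel _ (kernelIsKernel q)
      mono_f := inferInstanceAs (Mono (kernel.ι q))
      epi_g := inferInstanceAs (Epi q) }
  have hinj' : Function.Injective (Curves.LES.mapK k S.f 1) := by
    refine Function.Injective.of_comp (f := Curves.LES.mapK k σ 1) ?_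
    rw [← LinearMap.coe_comp, ← Curves.LES.mapK_comp, show S.f ≫ σ = mulHom (kernel q) s from hσ]
    exact hinj
  haveI : Subsingleton Γ(ClSub.idealMod (ptI hx), ⊤) :=
    ⟨fun u v => (ptI_section_eq_zero X hΓ hx u).trans (ptI_section_eq_zero X hΓ hx v).symm⟩
  haveI hI0 : Subsingleton (Coh.HH X S.X₂ 0) :=
    (Curves.GlobalSections.h0Equiv (ClSub.idealMod (ptI hx))).toEquiv.subsingleton_congr.2
      (show Subsingleton Γ(ClSub.idealMod (ptI hx), ⊤) from inferInstance)
  have hT0 : Subsingleton (Coh.HH X T 0) := by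
    refine subsingleton_of_forall_eq 0 fun z => ?_
    have h1 : Curves.LES.δK k hS 0 1 rfl z = 0 := hinj' (by
      rw [map_zero]; exact ((Curves.LES.exactK₁ k hS 0 1 rfl) _).2 ⟨z, rfl⟩)
    obtain ⟨y, hy⟩ := ((Curves.LES.exactK₃ k hS 0 1 rfl) z).1 h1
    rw [← hy, Subsingleton.elim y 0, map_zero]
  exact not_isZero_tq hx hfld (isZero_of_torsion X
    (fun y hy => subsingleton_tq hx fun h => hy (h ▸ hx)) hT0)

end Groth.Agent.H60.GGDual.Main
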